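import Mathlib

/-! Lengths of cokernels over a birational extension `A ⊆ B` with conductor containing `t`,
for modules isomorphic to `A^a × 𝔪^c`. -/

noncomputable section

set_option autoImplicit false
set_option linter.style.haveILetI false
set_option maxHeartbeats 1000000

universe u

open IsLocalRing TensorProduct

namespace Groth.Agent.NodePush7

set_option linter.unusedSectionVars false

variable {A B : Type u} [CommRing A] [IsLocalRing A] [CommRing B] [Algebra A B]

/-- `A ⊆ B`, with `t` regular on `B` and `t B ⊆ A`. -/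
structure Birat (A B : Type u) [CommRing A] [CommRing B] [Algebra A B] (t : A) : Prop where
  inj : Function.Injective (algebraMap A B)
  regB : ∀ b : B, algebraMap A B t * b = 0 → b = 0
  den : ∀ b : B, ∃ a, algebraMap A B a = algebraMap A B t * b

theorem Birat.regA {t : A} (h : Birat A B t) (a : A) (ha : t * a = 0) : a = 0 :=
  h.inj (by rw [map_zero]; exact h.regB _ (by rw [← map_mul, ha, map_zero]))

/-- The linear map `b ↦ t b` with values in `A`. -/
def Birat.num {t : A} (h : Birat A B t) : B →ₗ[A] A where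
  toFun b := (h.den b).choose
  map_add' b b' := h.inj (by
    rw [map_add, (h.den _).choose_spec, (h.den _).choose_spec, (h.den _).choose_spec, mul_add])
  map_smul' r b := h.inj (by
    rw [RingHom.id_apply, smul_eq_mul, map_mul, (h.den _).choose_spec, (h.den _).choose_spec, Algebra.smul_def,
      mul_left_comm])

theorem Birat.num_spec {t : A} (h : Birat A B t) (b : B) :
    algebraMap A B (h.num b) = algebraMap A B t * b := (h.den b).choose_spec

theorem Birat.num_one {t : A} (h : Birat A B t) : h.num 1 = t :=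
  h.inj (by rw [h.num_spec, mul_one])

abbrev TF (A : Type u) [CommRing A] [IsLocalRing A] (a c : ℕ) : Type u :=
  (Fin a → A) × (Fin c → maximalIdeal A)

variable {M : Type u} [AddCommGroup M] [Module A M] {a c : ℕ} (e : M ≃ₗ[A] TF A a c)

include e in
theorem Birat.regM {t : A} (h : Birat A B t) (v : M) (hv : t • v = 0) : v = 0 := by
  apply e.injective
  have h1 : t • e v = 0 := by rw [← map_smul, hv, map_zero]
  rw [map_zero]
  refine Prod.ext (funext fun i => h.regA _ ?_) (funext fun i => Subtype.ext (h.regA _ ?_))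
  · exact congrFun (congrArg Prod.fst h1) i
  · exact congrArg Subtype.val (congrFun (congrArg Prod.snd h1) i)

include e in
theorem Birat.unit_injective {t : A} (h : Birat A B t) :
    Function.Injective (fun v : M => (1 : B) ⊗ₜ[A] v) := by
  intro v w hvw
  let f : B ⊗[A] M →ₗ[A] M := (TensorProduct.lid A M).toLinearMap ∘ₗ LinearMap.rTensor M h.num
  have hf : ∀ x : M, f (1 ⊗ₜ x) = t • x := fun x => by simp [f, h.num_one]
  rw [← sub_eq_zero]
  refine h.regM e _ ?_
  rw [smul_sub, ← hf, ← hf, show (1 : B) ⊗ₜ[A] v = 1 ⊗ₜ w from hvw, sub_self]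

abbrev Q (A B : Type u) [CommRing A] [CommRing B] [Algebra A B] : Type u :=
  B ⧸ LinearMap.range (Algebra.linearMap A B)

/-- The cokernel of `v ↦ 1 ⊗ v` is `(B/A) ⊗ M`. -/
def unitCokerEquiv (M : Type u) [AddCommGroup M] [Module A M] :
    ((B ⊗[A] M) ⧸ LinearMap.range (TensorProduct.mk A B M 1)) ≃ₗ[A] Q A B ⊗[A] M :=
  (Submodule.quotEquivOfEq _ _ (by
    apply le_antisymm
    · rintro _ ⟨v, rfl⟩
      exact ⟨1 ⊗ₜ v, by simp⟩
    · rintro _ ⟨z, rfl⟩
      induction z using TensorProduct.induction_on with
      | zero => simp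
      | tmul r v => exact ⟨r • v, by simp [Algebra.algebraMap_eq_smul_one, smul_tmul]⟩
      | add x y hx hy => rw [map_add]; exact add_mem hx hy)).trans
    (rTensor.equiv M (f := Algebra.linearMap A B) (g := Submodule.mkQ _)
      (LinearMap.exact_map_mkQ_range _) (Submodule.mkQ_surjective _))

theorem unit_coker_length_zero (hQ : Module.length A (Q A B) = 0) :
    Module.length A ((B ⊗[A] M) ⧸ LinearMap.range (TensorProduct.mk A B M 1)) = 0 := by
  haveI : Subsingleton (Q A B) := Module.length_eq_zero_iff.1 hQ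
  rw [(unitCokerEquiv M).length_eq, Module.length_eq_zero_iff]
  exact subsingleton_of_forall_eq 0 fun z => by
    induction z using TensorProduct.induction_on with
    | zero => rfl
    | tmul q v => rw [Subsingleton.elim q 0, zero_tmul]
    | add x y hx hy => rw [hx, hy, add_zero]

theorem length_residue_tensor_max [IsNoetherianRing A] :
    Module.length A ((A ⧸ maximalIdeal A) ⊗[A] maximalIdeal A) =
      Module.finrank (ResidueField A) (CotangentSpace A) := by
  rw [(TensorProduct.quotTensorEquivQuotSMul (maximalIdeal A) (maximalIdeal A)).length_eq]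
  show Module.length A (CotangentSpace A) = _
  rw [Module.length_eq_of_surjective (R := ResidueField A) (residue_surjective),
    Module.length_eq_finrank]

include e in
theorem unit_coker_length [IsNoetherianRing A] (hQ : Module.length A (Q A B) = 1) :
    Module.length A ((B ⊗[A] M) ⧸ LinearMap.range (TensorProduct.mk A B M 1)) =
      (a + c * Module.finrank (ResidueField A) (CotangentSpace A) : ℕ) := by
  obtain ⟨I, hI, ⟨q⟩⟩ := isSimpleModule_iff_quot_maximal.1 (Module.length_eq_one_iff.1 hQ)
  obtain rfl := eq_maximalIdeal hI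
  rw [(unitCokerEquiv M).length_eq, (TensorProduct.congr q e).length_eq,
    (TensorProduct.prodRight A A (A ⧸ maximalIdeal A) (Fin a → A) (Fin c → maximalIdeal A)).length_eq,
    Module.length_prod, (TensorProduct.piRight A A (A ⧸ maximalIdeal A) (fun _ : Fin a => A)).length_eq,
    (TensorProduct.piRight A A (A ⧸ maximalIdeal A) (fun _ : Fin c => maximalIdeal A)).length_eq,
    Module.length_pi, Module.length_pi, (TensorProduct.rid A (A ⧸ maximalIdeal A)).length_eq,
    length_residue_tensor_max]
  haveI : IsSimpleModule A (A ⧸ maximalIdeal A) :=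
    isSimpleModule_iff_isCoatom.2 (maximalIdeal.isMaximal A).1
  rw [Module.length_eq_one]
  simp

section span

variable {r : ℕ} (ψ : M →ₗ[A] (Fin r → B)) {t : A}
  (hψ : Submodule.span B (Set.range ψ) = ⊤)

include hψ in
theorem span_induct {p : (Fin r → B) → Prop} (mem : ∀ v, p (ψ v)) (zero : p 0)
    (add : ∀ x y, p x → p y → p (x + y)) (smul : ∀ (b : B) x, p x → p (b • x)) (x : Fin r → B) : p x := by
  have hx : x ∈ Submodule.span B (Set.range ψ) := hψ ▸ Submodule.mem_top
  induction hx using Submodule.span_induction with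
  | mem y hy => obtain ⟨v, rfl⟩ := hy; exact mem v
  | zero => exact zero
  | add x y _ _ hx hy => exact add x y hx hy
  | smul b x _ hx => exact smul b x hx

include hψ e in
theorem Birat.span_injective (h : Birat A B t) (hr : a + c = r) (ht : ∀ _ : Fin c, t ∈ maximalIdeal A) :
    Function.Injective ψ := by
  classical
  let σ : Fin a ⊕ Fin c → M := fun j => e.symm (Sum.elim (fun i => (Pi.single i 1, 0))
    (fun i => (0, Pi.single i ⟨t, ht i⟩)) j)
  let V : M → Fin a ⊕ Fin c → A := fun v j => Sum.elim (fun i => t * (e v).1 i) (fun i => ((e v).2 i : A)) j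
  have hV : ∀ v, ∑ j, V v j • σ j = t • v := fun v => by
    apply e.injective
    rw [map_sum, map_smul]
    simp only [map_smul, σ, LinearEquiv.apply_symm_apply, V]
    rw [Fintype.sum_sum_type]
    refine Prod.ext (funext fun i => ?_) (funext fun i => Subtype.ext ?_)
    · simp [Pi.single_apply, Prod.fst_sum, Finset.sum_apply]
    · simp [Pi.single_apply, Prod.snd_sum, Finset.sum_apply, mul_comm t]
  let P : Matrix (Fin r) (Fin r) B := Matrix.of fun i j => ψ (σ (finSumFinEquiv.symm (j.cast hr.symm))) i
  have hP : ∀ v, P.mulVec (fun j => algebraMap A B (V v (finSumFinEquiv.symm (j.cast hr.symm)))) =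
      algebraMap A B t • ψ v := fun v => by
    rw [algebraMap_smul, ← map_smul, ← hV, map_sum]
    funext i
    rw [Finset.sum_apply, Matrix.mulVec, dotProduct]
    refine Fintype.sum_equiv ((finCongr hr.symm).trans finSumFinEquiv.symm) _ _ fun j => ?_
    simp [P, Algebra.smul_def, mul_comm]
  have hsurj : ∀ x : Fin r → B, ∃ y, P.mulVec y = algebraMap A B t • x := span_induct ψ hψ
    (fun v => ⟨_, hP v⟩) ⟨0, by simp⟩
    (fun x y ⟨p, hp⟩ ⟨q, hq⟩ => ⟨p + q, by rw [Matrix.mulVec_add, hp, hq, smul_add]⟩)
    fun b x ⟨p, hp⟩ => ⟨b • p, by rw [Matrix.mulVec_smul, hp, smul_comm]⟩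
  choose y hy using fun i : Fin r => hsurj (Pi.single i 1)
  let N : Matrix (Fin r) (Fin r) B := Matrix.of fun i j => y j i
  have hPN : P * N = algebraMap A B t • (1 : Matrix (Fin r) (Fin r) B) := by
    ext i j
    have := congrFun (hy j) i
    simpa [Matrix.mul_apply, Matrix.mulVec, dotProduct, N, Pi.single_apply, Matrix.one_apply] using this
  have hdet : P.det * N.det = algebraMap A B t ^ r := by
    rw [← Matrix.det_mul, hPN, Matrix.det_smul, Matrix.det_one, Fintype.card_fin, mul_one]
  have hreg : ∀ (n : ℕ) (b : B), algebraMap A B t ^ n * b = 0 → b = 0 := by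
    intro n
    induction n with
    | zero => simp
    | succ n ih => intro b hb; exact h.regB b (ih _ (by rwa [← mul_assoc, ← pow_succ]))
  intro v w hvw
  rw [← sub_eq_zero]
  have h0 : ψ (v - w) = 0 := by rw [map_sub, hvw, sub_self]
  generalize v - w = m at h0 ⊢
  have h1 := hP m
  rw [h0, smul_zero] at h1
  have h2 : ∀ j, algebraMap A B (V m (finSumFinEquiv.symm (Fin.cast hr.symm j))) = 0 := fun j => by
    refine hreg r _ ?_
    rw [← hdet, mul_comm P.det, mul_assoc]
    have h3 := congrArg (fun z => Matrix.mulVec P.adjugate z j) h1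
    simp only [Matrix.mulVec_mulVec, Matrix.adjugate_mul, Matrix.smul_mulVec, Matrix.one_mulVec,
      Matrix.mulVec_zero, Pi.smul_apply, Pi.zero_apply, smul_eq_mul] at h3
    rw [h3, mul_zero]
  refine h.regM e m ?_
  rw [← hV]
  refine Finset.sum_eq_zero fun j _ => ?_
  have h4 := h2 ((finSumFinEquiv j).cast hr)
  rw [Fin.cast_cast, Fin.cast_refl, id_eq, Equiv.symm_apply_apply, ← map_zero (algebraMap A B)] at h4
  rw [h.inj h4, zero_smul]

/-- `𝔪` is stable under `B`. -/
def Stable (A B : Type u) [CommRing A] [IsLocalRing A] [CommRing B] [Algebra A B] : Prop :=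
  ∀ b : B, ∀ z : maximalIdeal A, ∃ z' : maximalIdeal A, algebraMap A B z' = b * algebraMap A B z

include hψ e in
theorem Birat.span_coker_length (h : Birat A B t) (hψi : Function.Injective ψ) (hst : 0 < c → Stable A B) :
    Module.length A ((Fin r → B) ⧸ LinearMap.range ψ) = a * Module.length A (Q A B) := by
  classical
  let x : Fin a → M := fun i => e.symm (Pi.single i 1, 0)
  let g : (Fin a → B) →ₗ[A] (Fin r → B) :=
    ∑ i, (LinearMap.proj (R := A) (φ := fun _ : Fin a => B) i).smulRight (ψ (x i))
  have hg : ∀ b, g b = ∑ i, b i • ψ (x i) := fun b => by simp [g]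
  have hzm : ∀ (b : B) (i : Fin c) (z : maximalIdeal A),
      b • ψ (e.symm (0, Pi.single i z)) ∈ LinearMap.range ψ := fun b i z => by
    obtain ⟨z', hz'⟩ := hst (i.pos) b z
    refine ⟨e.symm (0, Pi.single i z'), sub_eq_zero.1 (funext fun j => h.regB _ ?_)⟩
    have h1 : t • e.symm ((0 : Fin a → A), Pi.single i z') =
        (h.num b) • e.symm ((0 : Fin a → A), Pi.single i z) := by
      rw [← map_smul, ← map_smul]
      congr 1
      refine Prod.ext (by simp) (funext fun l => Subtype.ext (h.inj ?_))
      by_cases hl : l = i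
      · subst hl
        simp [h.num_spec, hz', mul_assoc]
      · simp [hl]
    have h2 := congrFun (congrArg ψ h1) j
    rw [map_smul, map_smul, Pi.smul_apply, Pi.smul_apply, Algebra.smul_def, Algebra.smul_def, h.num_spec] at h2
    rw [Pi.sub_apply, Pi.smul_apply, smul_eq_mul, mul_sub, h2]
    ring
  have hdec : ∀ v, e.symm (e v) = ∑ i, (e v).1 i • x i + ∑ i, e.symm (0, Pi.single i ((e v).2 i)) := fun v => by
    apply e.injective
    simp only [map_add, map_sum, map_smul, x, LinearEquiv.apply_symm_apply]
    refine Prod.ext (funext fun i => ?_) (funext fun i => Subtype.ext ?_)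
    · simp [Pi.single_apply, Prod.fst_sum, Finset.sum_apply]
    · simp [Pi.single_apply, Prod.snd_sum, Finset.sum_apply]
  have hsurj : ∀ y : Fin r → B, ∃ b, y - g b ∈ LinearMap.range ψ := by
    refine span_induct ψ hψ (fun v => ⟨0, v, by simp⟩) ⟨0, by simp⟩
      (fun y y' ⟨b, hb⟩ ⟨b', hb'⟩ => ⟨b + b', by rw [map_add, add_sub_add_comm]; exact add_mem hb hb'⟩)
      fun s y ⟨b, v, hv⟩ => ?_
    refine ⟨fun i => s * b i + s * algebraMap A B ((e v).1 i), ?_⟩
    have hy : y = ψ (e.symm (e v)) + ∑ i, b i • ψ (x i) := by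
      rw [e.symm_apply_apply, ← hg]; exact eq_add_of_sub_eq hv.symm
    rw [hy, hdec, map_add, map_sum, map_sum, hg]
    simp only [map_smul, smul_add, Finset.smul_sum, add_smul, mul_smul, Finset.sum_add_distrib, algebraMap_smul]
    have hrw : ∑ i, s • (e v).1 i • ψ (x i) + ∑ i, s • ψ (e.symm (0, Pi.single i ((e v).2 i))) +
        ∑ i, s • b i • ψ (x i) - (∑ i, s • b i • ψ (x i) + ∑ i, s • (e v).1 i • ψ (x i)) =
        ∑ i, s • ψ (e.symm (0, Pi.single i ((e v).2 i))) := by abel
    rw [hrw]
    exact sum_mem fun i _ => hzm s i _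
  let θ : (Fin a → B) →ₗ[A] ((Fin r → B) ⧸ LinearMap.range ψ) := (Submodule.mkQ _).comp g
  have hθ : Function.Surjective θ := fun q => by
    obtain ⟨y, rfl⟩ := Submodule.mkQ_surjective _ q
    obtain ⟨b, hb⟩ := hsurj y
    exact ⟨b, ((Submodule.Quotient.eq _).2 hb).symm⟩
  have hker : LinearMap.ker θ = Submodule.pi Set.univ fun _ => LinearMap.range (Algebra.linearMap A B) := by
    ext b
    simp only [θ, LinearMap.mem_ker, LinearMap.comp_apply, Submodule.mkQ_apply, Submodule.Quotient.mk_eq_zero,
      Submodule.mem_pi, Set.mem_univ, forall_const]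
    constructor
    · rintro ⟨v, hv⟩ i
      have h1 : ψ (∑ l, h.num (b l) • x l) = ψ (t • v) := by
        rw [map_sum, map_smul, hv, hg, Finset.smul_sum]
        refine Finset.sum_congr rfl fun l _ => ?_
        rw [map_smul, ← algebraMap_smul B (h.num (b l)), h.num_spec, mul_smul, algebraMap_smul]
      have h2 := congrFun (congrArg (fun m => (e m).1) (hψi h1)) i
      simp [x, Prod.fst_sum, Finset.sum_apply, Pi.single_apply] at h2
      refine ⟨(e v).1 i, (sub_eq_zero.1 (h.regB _ ?_))⟩
      have h3 := congrArg (algebraMap A B) h2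
      rw [h.num_spec, map_mul] at h3
      rw [Algebra.linearMap_apply, mul_sub, ← h3]
      exact sub_self _
    · intro hb
      choose z hz using hb
      refine ⟨∑ l, z l • x l, ?_⟩
      rw [map_sum, hg]
      exact Finset.sum_congr rfl fun l _ => by
        rw [map_smul, ← hz l, Algebra.linearMap_apply, algebraMap_smul]
  rw [← (LinearMap.quotKerEquivOfSurjective θ hθ).length_eq,
    (Submodule.quotEquivOfEq _ _ hker).length_eq,
    (Submodule.quotientPi fun _ : Fin a => LinearMap.range (Algebra.linearMap A B)).length_eq]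
  simp

include hψ in
theorem Birat.comp_injective (h : Birat A B t) {s : ℕ} (μ : (Fin r → B) →ₗ[B] (Fin s → B))
    (hμ : Function.Injective (μ ∘ ψ)) : Function.Injective μ := by
  have hnum : ∀ x, ∀ b : B, ∃ v, algebraMap A B t • b • x = ψ v := span_induct ψ hψ
    (fun v b => ⟨h.num b • v, by rw [map_smul, smul_smul, ← h.num_spec, algebraMap_smul]⟩)
    (fun b => ⟨0, by simp⟩)
    (fun x y hx hy b => by
      obtain ⟨p, hp⟩ := hx b
      obtain ⟨q, hq⟩ := hy b
      exact ⟨p + q, by rw [map_add, smul_add, smul_add, hp, hq]⟩)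
    fun b x hx b' => by
      obtain ⟨p, hp⟩ := hx (b' * b)
      exact ⟨p, by rw [smul_smul b' b, hp]⟩
  refine (injective_iff_map_eq_zero μ).2 fun x hx => ?_
  obtain ⟨v, hv⟩ := hnum x 1
  rw [one_smul] at hv
  have hv0 : v = 0 := hμ (by
    show μ (ψ v) = μ (ψ 0)
    rw [← hv, map_smul, hx, smul_zero, map_zero, map_zero])
  rw [hv0, map_zero] at hv
  exact funext fun i => h.regB _ (congrFun hv i)

end span

end Groth.Agent.NodePush7
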