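import Groth.Agent.NodePush7.Loc

/-! The normalisation of a connected nodal curve: numerical facts at each point. -/

noncomputable section

open CategoryTheory CategoryTheory.Limits AlgebraicGeometry Opposite TopologicalSpace IsLocalRing

set_option backward.isDefEq.respectTransparency false
set_option backward.isDefEq.respectTransparency.types false
set_option linter.style.haveILetI false
set_option maxHeartbeats 1000000

universe u

namespace Groth.Agent.NodePush7

open Groth.Agent

theorem finrank_cotangent_of_nodePair {A : Type u} [CommRing A] [IsLocalRing A] [IsNoetherianRing A] {x y : A}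
    (h : NodeLib.IsNodePair x y) : Module.finrank (ResidueField A) (CotangentSpace A) = 2 := by
  let v : Fin 2 → CotangentSpace A :=
    ![(maximalIdeal A).toCotangent ⟨x, h.left_mem⟩, (maximalIdeal A).toCotangent ⟨y, h.right_mem⟩]
  have hv : LinearIndependent (ResidueField A) v := by
    rw [Fintype.linearIndependent_iff]
    intro g hg
    obtain ⟨a, ha⟩ := residue_surjective (g 0)
    obtain ⟨b, hb⟩ := residue_surjective (g 1)
    rw [Fin.sum_univ_two, ← ha, ← hb] at hg
    have h2 : (maximalIdeal A).toCotangent
        (a • ⟨x, h.left_mem⟩ + b • ⟨y, h.right_mem⟩ : maximalIdeal A) = 0 := by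
      rw [map_add, map_smul, map_smul]
      exact hg
    rw [Ideal.toCotangent_eq_zero] at h2
    obtain ⟨h3, h4⟩ := h.2.2 1 le_rfl a b (by simpa using h2)
    intro i
    fin_cases i
    · show g 0 = 0
      rw [← ha]; exact (residue_eq_zero_iff a).2 h3
    · show g 1 = 0
      rw [← hb]; exact (residue_eq_zero_iff b).2 h4
  have hs : Submodule.span (ResidueField A) (Set.range v) = ⊤ := by
    refine top_unique fun z _ => ?_
    obtain ⟨⟨w, hw⟩, rfl⟩ := Ideal.toCotangent_surjective _ z
    have hw' := hw
    rw [h.1, Ideal.mem_span_pair] at hw'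
    obtain ⟨a, b, rfl⟩ := hw'
    have : (maximalIdeal A).toCotangent ⟨a * x + b * y, hw⟩ =
        residue A a • v 0 + residue A b • v 1 := by
      rw [show (⟨a * x + b * y, hw⟩ : maximalIdeal A) = a • ⟨x, h.left_mem⟩ + b • ⟨y, h.right_mem⟩ from rfl,
        map_add, map_smul, map_smul]
      rfl
    rw [this]
    exact add_mem (Submodule.smul_mem _ _ (Submodule.subset_span ⟨0, rfl⟩))
      (Submodule.smul_mem _ _ (Submodule.subset_span ⟨1, rfl⟩))
  rw [Module.finrank_eq_card_basis (Module.Basis.mk hv hs.ge)]
  simp

variable {k : Type u} [Field k] {X : Scheme.{u}} [X.Over (Spec (CommRingCat.of k))]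
  [IsProper (X ↘ Spec (CommRingCat.of k))]

include k in
theorem components_dim [ConnectedSpace X] (hdim : topologicalKrullDim X = 1) :
    ∀ Z ∈ irreducibleComponents (X : Type u), topologicalKrullDim Z = 1 := by
  intro Z hZ
  haveI := CurveCohLib.isNoetherian' (k := k) (X := X)
  let f := X ↘ Spec (CommRingCat.of k)
  have hZc := isClosed_of_mem_irreducibleComponents Z hZ
  obtain ⟨η, hη⟩ := QuasiSober.sober hZ.1 hZc
  have hcl : closure ({η} : Set X) = Z := hη
  have hd : topologicalKrullDim Z = ((VarDim.deg f η : ℕ∞) : WithBot ℕ∞) := by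
    rw [← hcl]; exact VarDim.topologicalKrullDim_closure_singleton f η
  have hle : topologicalKrullDim Z ≤ 1 := hdim ▸ hZc.isClosedEmbedding_subtypeVal.isInducing.topologicalKrullDim_le
  rw [hd] at hle ⊢
  have hle' : VarDim.deg f η ≤ 1 := by exact_mod_cast hle
  rcases Nat.le_one_iff_eq_zero_or_eq_one.1 hle' with h0 | h1
  · exfalso
    have hη' := (VarDim.closedPoint_iff_deg_eq_zero f η).2 h0
    have hZη : Z = {η} := by rw [← hcl, hη'.closure_eq]
    have hfin : (irreducibleComponents (X : Type u)).Finite := NoetherianSpace.finite_irreducibleComponents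
    have hopen : IsOpen ({η} : Set X) := by
      have heq : ({η} : Set X) = (⋃ W ∈ irreducibleComponents (X : Type u) \ {Z}, W)ᶜ := by
        ext z
        simp only [Set.mem_compl_iff, Set.mem_iUnion, not_exists, Set.mem_singleton_iff]
        constructor
        · rintro rfl W ⟨hW, hne⟩ hzW
          exact hne (le_antisymm (hZ.2 hW.1 (hZη ▸ Set.singleton_subset_iff.2 hzW))
            (hZη ▸ Set.singleton_subset_iff.2 hzW))
        · intro hz
          by_contra hne
          have hzc : z ∈ irreducibleComponent z := mem_irreducibleComponent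
          refine hz (irreducibleComponent z) ⟨irreducibleComponent_mem_irreducibleComponents z, fun hc => ?_⟩ hzc
          rw [Set.mem_singleton_iff.1 hc, hZη, Set.mem_singleton_iff] at hzc
          exact hne hzc
      rw [heq]
      exact (Set.Finite.isClosed_biUnion (hfin.subset Set.sdiff_subset)
        fun W hW => isClosed_of_mem_irreducibleComponents W hW.1).isOpen_compl
    have huniv : ({η} : Set X) = Set.univ :=
      (isClopen_iff.1 ⟨hη', hopen⟩).resolve_left (Set.singleton_ne_empty η)
    have h1 : topologicalKrullDim X ≤ 0 := by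
      have h2 : topologicalKrullDim ({η} : Set X) = topologicalKrullDim X := by
        rw [huniv]; exact IsHomeomorph.topologicalKrullDim_eq _ (Homeomorph.Set.univ X).isHomeomorph
      rw [← h2, ← hη'.closure_eq, VarDim.topologicalKrullDim_closure_singleton f η, h0]
      rfl
    rw [hdim] at h1
    exact absurd h1 (by decide)
  · rw [h1]; rfl

variable [IsAlgClosed k]

/-- Everything the local statements need. -/
theorem setup [ConnectedSpace X] (hdim : topologicalKrullDim X = 1) (hnod : Curv2.AtWorstNodal k X)
    {Y : Scheme.{u}} (π : Y ⟶ X) [IsFinite π] [Smooth (π ≫ (X ↘ Spec (CommRingCat.of k)))]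
    (U : X.Opens) (hU : ∀ x : X, x ∈ U ↔ ¬ Curv2.IsNode k X x) [IsIso (π ∣_ U)]
    (hUd : Dense ((π ⁻¹ᵁ U : Y.Opens) : Set Y)) :
    AlgebraicGeometry.IsReduced X ∧ IsLocallyNoetherian X ∧ AlgebraicGeometry.IsReduced Y ∧ Dense (U : Set X) ∧
      (∀ x : X, ¬ Curv2.IsNode k X x →
        Module.length (X.presheaf.stalk x) ((cokernel (ClSub.unitToPush π)).presheaf.stalk x) = 0) ∧
      (∀ x : X, Curv2.IsNode k X x →
        Module.length (X.presheaf.stalk x) ((cokernel (ClSub.unitToPush π)).presheaf.stalk x) = 1 ∧
        (∃ z ∈ maximalIdeal (X.presheaf.stalk x), ∀ w : X.presheaf.stalk x, z * w = 0 → w = 0) ∧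
        Module.finrank (ResidueField (X.presheaf.stalk x)) (CotangentSpace (X.presheaf.stalk x)) = 2) := by
  classical
  have hcomp := components_dim (k := k) hdim
  let f := X ↘ Spec (CommRingCat.of k)
  haveI : IsLocallyNoetherian X := LocallyOfFiniteType.isLocallyNoetherian f
  haveI : LocallyOfFinitePresentation f := inferInstance
  have hd : topologicalKrullDim X ≤ 1 := hdim.le
  haveI : AlgebraicGeometry.IsReduced X := by
    haveI : ∀ y : X, _root_.IsReduced (X.presheaf.stalk y) := fun y =>
      (NodeLib.reduced_gorenstein_of_atWorstNodal hd hnod y).1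
    exact isReduced_of_isReduced_stalk X
  have hY : Pi1.IsNormalScheme Y := fun y => by
    haveI := SmoothReg.isRegularLocalRing_stalk_of_mem_smoothLocus (π ≫ f) (x := y)
      (by rw [Scheme.Hom.smoothLocus_eq_top]; trivial)
    exact ⟨RegLoc6.isDomain_of_isRegularLocalRing _, RegLoc6.isIntegrallyClosed_of_isRegularLocalRing _⟩
  haveI : AlgebraicGeometry.IsReduced Y := by
    haveI : ∀ y : Y, _root_.IsReduced (Y.presheaf.stalk y) := fun y => by
      haveI := (hY y).1
      infer_instance
    exact isReduced_of_isReduced_stalk Y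
  have hUdense : Dense (U : Set X) := by
    rw [dense_iff_inter_open]
    intro W hW ⟨z, hz⟩
    obtain ⟨η, hη⟩ := QuasiSober.sober (isIrreducible_irreducibleComponent (x := z)) isClosed_irreducibleComponent
    refine ⟨η, (hη.specializes mem_irreducibleComponent).mem_open hW hz, (hU η).2 fun hn => ?_⟩
    have hd1 := hcomp _ (irreducibleComponent_mem_irreducibleComponents z)
    rw [← hη, VarDim.topologicalKrullDim_closure_singleton f η,
      (VarDim.closedPoint_iff_deg_eq_zero f η).1 hn.1] at hd1
    exact absurd hd1 (by decide)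
  refine ⟨inferInstance, inferInstance, inferInstance, hUdense,
    fun x hx => by
      rw [Module.length_eq_zero_iff]
      exact NormEuler.subsingleton_cokernel_stalk π ((hU x).2 hx), fun x hx => ?_⟩
  haveI := NodeLib.isNoetherianRing_stalk_of_lft f x
  obtain ⟨a, b, hab⟩ := NodeLib.hasNodePair_of_isNode hx (IsPullback.id_horiz f) x rfl
  refine ⟨?_, ?_, finrank_cotangent_of_nodePair hab⟩
  · rw [NormEuler.length_cokernel π hUdense hUd hY x]
    have h := NormEuler.deltaInv_nodal hcomp hnod hx.1
    rw [if_pos hx] at h
    exact (ENat.toNat_eq_iff one_ne_zero).1 h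
  · by_contra hne
    push Not at hne
    have hfield : IsField (X.presheaf.stalk x) := TFCurvLib.isField_of_forall_not_regular fun r hr hreg => by
      obtain ⟨w, hw, hw0⟩ := hne r hr
      exact hw0 (hreg (show r • w = r • (0 : X.presheaf.stalk x) by rw [smul_zero, smul_eq_mul, hw]))
    have hm : maximalIdeal (X.presheaf.stalk x) = ⊥ := IsLocalRing.isField_iff_maximalIdeal_eq.1 hfield
    have h4 := hab.2.2 1 le_rfl 1 0 (by
      have : a ∈ maximalIdeal (X.presheaf.stalk x) := hab.left_mem
      rw [hm, Submodule.mem_bot] at this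
      simp [this])
    exact (mem_maximalIdeal _).1 h4.1 isUnit_one

end Groth.Agent.NodePush7

namespace Groth.Agent.NodePush7

/-- A free module as a module of the shape `A^r × 𝔪^0`. -/
def tfOfFree {A : Type u} [CommRing A] [IsLocalRing A] {M : Type u} [AddCommGroup M] [Module A M] {r : ℕ}
    (e : M ≃ₗ[A] (Fin r → A)) : M ≃ₗ[A] TF A r 0 :=
  e.trans
    { toFun := fun x => (x, 0)
      invFun := Prod.fst
      left_inv := fun _ => rfl
      right_inv := fun x => Prod.ext rfl (funext fun i => i.elim0)
      map_add' := fun x y => Prod.ext rfl (add_zero _).symm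
      map_smul' := fun c x => Prod.ext rfl (smul_zero c).symm }

/-- Lengths of cokernels of a composite with injective second factor. -/
theorem length_coker_comp {A : Type u} [CommRing A] {M N P : Type u} [AddCommGroup M] [Module A M]
    [AddCommGroup N] [Module A N] [AddCommGroup P] [Module A P] (f : M →ₗ[A] N) (g : N →ₗ[A] P)
    (hg : Function.Injective g) :
    Module.length A (P ⧸ LinearMap.range (g.comp f)) =
      Module.length A (N ⧸ LinearMap.range f) + Module.length A (P ⧸ LinearMap.range g) := by
  refine Module.length_eq_add_of_exact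
    (Submodule.mapQ (LinearMap.range f) (LinearMap.range (g.comp f)) g
      (by rintro _ ⟨m, rfl⟩; exact ⟨m, rfl⟩))
    (Submodule.factor (LinearMap.range_comp_le_range f g)) ?_ (Submodule.factor_surjective _) ?_
  · rw [← LinearMap.ker_eq_bot, Submodule.eq_bot_iff]
    intro z hz
    obtain ⟨n, rfl⟩ := Submodule.mkQ_surjective _ z
    rw [LinearMap.mem_ker, Submodule.mkQ_apply, Submodule.mapQ_apply, Submodule.Quotient.mk_eq_zero] at hz
    obtain ⟨m, hm⟩ := hz
    rw [Submodule.mkQ_apply, Submodule.Quotient.mk_eq_zero]
    exact ⟨m, hg hm⟩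
  · intro z
    obtain ⟨w, rfl⟩ := Submodule.mkQ_surjective _ z
    constructor
    · intro hw
      change Submodule.Quotient.mk w = 0 at hw
      rw [Submodule.Quotient.mk_eq_zero] at hw
      obtain ⟨n, hn⟩ := hw
      exact ⟨Submodule.Quotient.mk n, by rw [Submodule.mapQ_apply, hn, Submodule.mkQ_apply]⟩
    · rintro ⟨n, hn⟩
      obtain ⟨n, rfl⟩ := Submodule.mkQ_surjective _ n
      rw [← hn]
      show Submodule.Quotient.mk (g n) = 0
      rw [Submodule.Quotient.mk_eq_zero]
      exact ⟨n, rfl⟩

end Groth.Agent.NodePush7
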