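import Groth.Agent.NodePush7.Localize
import Groth.Agent.NormEuler.Nodal
import Groth.Agent.ExistEasy.PP.PullSec
import Groth.Agent.FittX.FinSet
import Groth.Agent.HomShX.Basic
import Groth.Agent.TFCurvLib.AssTF

/-! Stalks of `F → π_*π^*F` and `F → π_*E` for a finite birational morphism. -/

noncomputable section

open CategoryTheory CategoryTheory.Limits AlgebraicGeometry Opposite TopologicalSpace IsLocalRing
open RefHull (stalkMapₗ)

set_option backward.isDefEq.respectTransparency false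
set_option backward.isDefEq.respectTransparency.types false
set_option linter.style.haveILetI false
set_option linter.unusedSectionVars false
set_option maxHeartbeats 1000000

universe u

namespace Groth.Agent.NodePush7

open Groth.Agent

variable {X Y : Scheme.{u}}

theorem length_coker_stalk {F G : X.Modules} (φ : F ⟶ G) (x : X) :
    Module.length (X.presheaf.stalk x) ((cokernel φ).presheaf.stalk x) =
      Module.length (X.presheaf.stalk x) (G.presheaf.stalk x ⧸ LinearMap.range (stalkMapₗ φ x)) :=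
  LinearEquiv.length_eq
    ((PreservesCokernel.iso (DerSch.stalkFunctor X x) φ ≪≫ ModuleCat.cokernelIsoRangeQuotient _).toLinearEquiv.trans
      (Submodule.quotEquivOfEq _ _ rfl))

/-- Bounded denominators on an affine open. -/
theorem exists_den [AlgebraicGeometry.IsReduced X] [IsLocallyNoetherian X] [AlgebraicGeometry.IsReduced Y]
    (π : Y ⟶ X) [IsFinite π] {U₀ : X.Opens} (hU : Dense (U₀ : Set X))
    (hU' : Dense ((π ⁻¹ᵁ U₀ : Y.Opens) : Set Y)) [IsIso (π ∣_ U₀)] {V : X.Opens} (hV : IsAffineOpen V) :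
    ∃ t : Γ(X, V), (∀ z : Γ(Y, π ⁻¹ᵁ V), π.app V t * z = 0 → z = 0) ∧
      ∀ z : Γ(Y, π ⁻¹ᵁ V), ∃ r, π.app V r = π.app V t * z := by
  haveI : IsNoetherianRing Γ(X, V) := IsLocallyNoetherian.component_noetherian ⟨V, hV⟩
  letI : Algebra Γ(X, V) Γ(Y, π ⁻¹ᵁ V) := (π.app V).hom.toAlgebra
  haveI : Module.Finite Γ(X, V) Γ(Y, π ⁻¹ᵁ V) := π.finite_app V hV
  obtain ⟨t, htmin, htU⟩ := (S2320.result Γ(X, V)).2 (hV.fromSpec ⁻¹' (U₀ : Set X))
    (U₀.isOpen.preimage hV.fromSpec.continuous) (hU.preimage hV.fromSpec.isOpenEmbedding.isOpenMap)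
  have hdt : Dense (PrimeSpectrum.basicOpen t : Set (PrimeSpectrum Γ(X, V))) := ((S2320.result Γ(X, V)).1 t).2 htmin
  have hDU : X.basicOpen t ≤ U₀ := by
    intro z hz
    rw [← hV.fromSpec_image_basicOpen] at hz
    obtain ⟨q, hq, rfl⟩ := hz
    exact htU hq
  have hres : ∀ z : Γ(Y, π ⁻¹ᵁ V),
      Y.presheaf.map (homOfLE (π.preimage_mono (X.basicOpen_le t))).op z = 0 → z = 0 := by
    intro z hz
    rw [← AlgebraicGeometry.basicOpen_eq_bot_iff]
    refine Opens.ext (Set.not_nonempty_iff_eq_empty.1 fun hne => ?_)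
    obtain ⟨y, hyB, hyU⟩ := hU'.inter_open_nonempty _ (Y.basicOpen z).isOpen hne
    let O : Set (U₀ : Scheme.{u}) := (π ∣_ U₀) '' ((π ⁻¹ᵁ U₀).ι ⁻¹' (Y.basicOpen z : Set Y))
    have hO : IsOpen O := (π ∣_ U₀).homeomorph.isOpenMap _ ((Y.basicOpen z).isOpen.preimage (π ⁻¹ᵁ U₀).ι.continuous)
    have hO' : IsOpen (U₀.ι '' O) := U₀.ι.isOpenEmbedding.isOpenMap _ hO
    obtain ⟨q, hqO, hqD⟩ := hdt.inter_open_nonempty _ (hO'.preimage hV.fromSpec.continuous)
      ⟨hV.primeIdealOf ⟨π y, Y.basicOpen_le z hyB⟩, by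
        rw [Set.mem_preimage, hV.fromSpec_primeIdealOf]
        exact ⟨_, ⟨⟨y, hyU⟩, hyB, rfl⟩, morphismRestrict_base_coe _ _ ⟨y, hyU⟩⟩⟩
    obtain ⟨w, ⟨y', hy'B, rfl⟩, hw⟩ := hqO
    have hD : π y'.1 ∈ X.basicOpen t := by
      rw [← morphismRestrict_base_coe]
      show U₀.ι _ ∈ _
      rw [hw, ← hV.fromSpec_image_basicOpen]
      exact ⟨q, hqD, rfl⟩
    have h2 := (Y.mem_basicOpen z y'.1 (Y.basicOpen_le z hy'B)).1 hy'B
    rw [← Y.presheaf.germ_res_apply (homOfLE (π.preimage_mono (X.basicOpen_le t))) y'.1 hD z, hz, map_zero] at h2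
    exact not_isUnit_zero h2
  have hinv : IsUnit (Y.presheaf.map (homOfLE (π.preimage_mono (X.basicOpen_le t))).op (π.app V t)) := by
    rw [← NormEuler.app_res]
    exact (RingedSpace.isUnit_res_basicOpen X.toRingedSpace t).map _
  have ht' : ∀ z : Γ(Y, π ⁻¹ᵁ V), π.app V t * z = 0 → z = 0 := fun z hz => hres z (by
    refine hinv.mul_right_eq_zero.1 ?_
    rw [← map_mul, hz, map_zero])
  haveI := hV.isLocalization_basicOpen t
  have hden₁ : ∀ z : Γ(Y, π ⁻¹ᵁ V), ∃ (n : ℕ) (r : Γ(X, V)), π.app V r = π.app V t ^ n * z := fun z => by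
    obtain ⟨a, ha⟩ := (NormX.bijective_app_of_isIso_restrict π U₀ hDU).2
      (Y.presheaf.map (homOfLE (π.preimage_mono (X.basicOpen_le t))).op z)
    obtain ⟨⟨r, ⟨_, n, rfl⟩⟩, hr⟩ := IsLocalization.surj (Submonoid.powers t) a
    refine ⟨n, r, sub_eq_zero.1 (hres _ ?_)⟩
    rw [map_sub, map_mul, map_pow, ← NormEuler.app_res π (X.basicOpen_le t), ← NormEuler.app_res π (X.basicOpen_le t),
      ← ha, ← map_pow, ← map_mul, ← map_sub]
    have hr' : a * X.presheaf.map (homOfLE (X.basicOpen_le t)).op (t ^ n) =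
      X.presheaf.map (homOfLE (X.basicOpen_le t)).op r := hr
    rw [← hr', map_pow, mul_comm, sub_self, map_zero]
  obtain ⟨S, hS⟩ := Module.Finite.fg_top (R := Γ(X, V)) (M := Γ(Y, π ⁻¹ᵁ V))
  choose n r hr using hden₁
  refine ⟨t ^ S.sup n, fun z => ?_, fun z => ?_⟩
  · rw [map_pow]
    generalize S.sup n = N
    induction N generalizing z with
    | zero => simp
    | succ N ih => intro h; exact ih z (ht' _ (by rw [← mul_assoc, ← pow_succ']; exact h))
  · have hz : z ∈ Submodule.span Γ(X, V) (S : Set Γ(Y, π ⁻¹ᵁ V)) := hS ▸ Submodule.mem_top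
    induction hz using Submodule.span_induction with
    | mem z hz =>
      refine ⟨t ^ (S.sup n - n z) * r z, ?_⟩
      rw [map_mul, map_pow, hr, ← mul_assoc, ← pow_add, Nat.sub_add_cancel (Finset.le_sup hz), map_pow]
    | zero => exact ⟨0, by rw [map_zero, mul_zero]⟩
    | add a b _ _ ha hb =>
      obtain ⟨r₁, h₁⟩ := ha
      obtain ⟨r₂, h₂⟩ := hb
      exact ⟨r₁ + r₂, by rw [map_add, h₁, h₂, mul_add]⟩
    | smul a z _ hz =>
      obtain ⟨r₁, h₁⟩ := hz
      exact ⟨a * r₁, by rw [map_mul, h₁, Algebra.smul_def, mul_left_comm]; rfl⟩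

section local_

variable (π : Y ⟶ X) [IsFinite π] [AlgebraicGeometry.IsReduced X] [IsLocallyNoetherian X]
  [AlgebraicGeometry.IsReduced Y] {U₀ : X.Opens} (hU : Dense (U₀ : Set X))
  (hU' : Dense ((π ⁻¹ᵁ U₀ : Y.Opens) : Set Y)) [IsIso (π ∣_ U₀)]

/-- `Γ(π_* G, V)` is `Γ(G, π⁻¹V)` as a module over `Γ(X, V)`. -/
abbrev appAlg (V : X.Opens) : Algebra Γ(X, V) Γ(Y, π ⁻¹ᵁ V) := (π.appLE V (π ⁻¹ᵁ V) le_rfl).hom.toAlgebra

abbrev appMod (G : Y.Modules) (V : X.Opens) : Module Γ(X, V) Γ(G, π ⁻¹ᵁ V) :=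
  Module.compHom _ (π.appLE V (π ⁻¹ᵁ V) le_rfl).hom

def pushEquiv (G : Y.Modules) (V : X.Opens) :
    letI := appMod π G V
    Γ(G, π ⁻¹ᵁ V) ≃ₗ[Γ(X, V)] Γ((Scheme.Modules.pushforward π).obj G, V) :=
  letI := appMod π G V
  { toFun := fun z => z
    invFun := fun z => z
    left_inv := fun _ => rfl
    right_inv := fun _ => rfl
    map_add' := fun _ _ => rfl
    map_smul' := fun a z => by
      show π.appLE V (π ⁻¹ᵁ V) le_rfl a • z = _
      rw [← Scheme.Hom.app_eq_appLE]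
      rfl }

def pushGerm (G : Y.Modules) (V : X.Opens) {x : X} (hx : x ∈ V) :
    letI := appMod π G V
    letI := QCoh.stalkModule ((Scheme.Modules.pushforward π).obj G) hx
    Γ(G, π ⁻¹ᵁ V) →ₗ[Γ(X, V)] ((Scheme.Modules.pushforward π).obj G).presheaf.stalk x :=
  letI := appMod π G V
  letI := QCoh.stalkModule ((Scheme.Modules.pushforward π).obj G) hx
  (QCoh.germLin _ hx).comp (pushEquiv π G V).toLinearMap

theorem pushGerm_loc {G : Y.Modules} (hG : Coh.IsQCoh G) {V : X.Opens} (hV : IsAffineOpen V) {x : X} (hx : x ∈ V) :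
    letI := appMod π G V
    letI := QCoh.stalkModule ((Scheme.Modules.pushforward π).obj G) hx
    IsLocalizedModule (hV.primeIdealOf ⟨x, hx⟩).asIdeal.primeCompl (pushGerm π G V hx) := by
  letI := appMod π G V
  letI := QCoh.stalkModule ((Scheme.Modules.pushforward π).obj G) hx
  haveI := QCoh.isLocalizedModule_germLin (QCoh.isQCoh_pushforward π hG) hV hx
  exact IsLocalizedModule.of_linearEquiv_right _ (QCoh.germLin _ hx) (pushEquiv π G V)

include hU in
theorem app_inj (V : X.Opens) : Function.Injective (π.appLE V (π ⁻¹ᵁ V) le_rfl) := by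
  rw [← Scheme.Hom.app_eq_appLE]
  exact NormEuler.app_injective π hU V

include hU hU' in
/-- The unit `F → π_*π^*F` on stalks. -/
theorem unit_stalk {F : X.Modules} (hF : Coh.IsQCoh F) (x : X) {a c : ℕ}
    (e : F.presheaf.stalk x ≃ₗ[X.presheaf.stalk x] TF (X.presheaf.stalk x) a c) :
    Function.Injective (stalkMapₗ ((Scheme.Modules.pullbackPushforwardAdjunction π).unit.app F) x) ∧
    (Module.length (X.presheaf.stalk x) ((cokernel (ClSub.unitToPush π)).presheaf.stalk x) = 0 →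
      Module.length (X.presheaf.stalk x)
        ((cokernel ((Scheme.Modules.pullbackPushforwardAdjunction π).unit.app F)).presheaf.stalk x) = 0) ∧
    (Module.length (X.presheaf.stalk x) ((cokernel (ClSub.unitToPush π)).presheaf.stalk x) = 1 →
      Module.length (X.presheaf.stalk x)
        ((cokernel ((Scheme.Modules.pullbackPushforwardAdjunction π).unit.app F)).presheaf.stalk x) =
        (a + c * Module.finrank (ResidueField (X.presheaf.stalk x)) (CotangentSpace (X.presheaf.stalk x)) : ℕ)) := by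
  obtain ⟨_, ⟨V, hV, rfl⟩, hxV, -⟩ :=
    X.isBasis_affineOpens.exists_subset_of_mem_open (Set.mem_univ x) isOpen_univ
  obtain ⟨t, ht, hden⟩ := exists_den π hU hU' hV
  let G := (Scheme.Modules.pullback π).obj F
  letI := appAlg π V
  letI := appMod π G V
  letI := appMod π (Coh.structureModule Y) V
  letI := QCoh.stalkAlg (X := X) hxV
  letI := QCoh.stalkModule F hxV
  letI := QCoh.stalkModule ((Scheme.Modules.pushforward π).obj G) hxV
  letI := QCoh.stalkModule ((Scheme.Modules.pushforward π).obj (Coh.structureModule Y)) hxV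
  haveI := QCoh.isScalarTower_stalk F hxV
  haveI := QCoh.isScalarTower_stalk ((Scheme.Modules.pushforward π).obj G) hxV
  haveI := QCoh.isScalarTower_stalk ((Scheme.Modules.pushforward π).obj (Coh.structureModule Y)) hxV
  haveI : IsLocalization.AtPrime (X.presheaf.stalk x) (hV.primeIdealOf ⟨x, hxV⟩).asIdeal :=
    QCoh.isLocalization_stalk' hV hxV
  haveI := QCoh.isLocalizedModule_germLin hF hV hxV
  haveI : Module.Finite Γ(X, V) Γ(Y, π ⁻¹ᵁ V) := by
    have := π.finite_app V hV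
    rw [Scheme.Hom.app_eq_appLE] at this
    exact this
  haveI : IsScalarTower Γ(X, V) Γ(Y, π ⁻¹ᵁ V) Γ(G, π ⁻¹ᵁ V) := IsScalarTower.of_algebraMap_smul fun _ _ => rfl
  obtain ⟨l, hl, hbc⟩ := ExistEasy.exists_pullSec_baseChange π hF (hV.preimage π) hV le_rfl
  haveI := pushGerm_loc π (QCoh.isQCoh_pullback π hF) hV hxV
  haveI := pushGerm_loc π (QCoh.isQCoh_structureModule (X := Y)) hV hxV
  have hη : ∀ m, stalkMapₗ ((Scheme.Modules.pullbackPushforwardAdjunction π).unit.app F) x (QCoh.germLin F hxV m) =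
      pushGerm π G V hxV (l m) := fun m => by
    refine (RefHull.stalkMapₗ_germ _ x hxV m).trans ?_
    rw [hl]
    unfold QCoh.pullSec
    simp [pushGerm, pushEquiv, QCoh.germLin]
    rfl
  obtain ⟨hinj, hlen⟩ := unit_local (p := (hV.primeIdealOf ⟨x, hxV⟩).asIdeal) (app_inj π hU V) t
    (fun z hz => ht z (by rw [Scheme.Hom.app_eq_appLE]; exact hz))
    (fun z => by
      obtain ⟨r, hr⟩ := hden z
      refine ⟨r, ?_⟩
      rw [Scheme.Hom.app_eq_appLE] at hr
      rw [Algebra.smul_def]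
      exact hr)
    (QCoh.germLin F hxV) e l hbc (pushGerm π G V hxV)
    ((stalkMapₗ ((Scheme.Modules.pullbackPushforwardAdjunction π).unit.app F) x)) hη
  obtain ⟨h0, h1⟩ := hlen (((Scheme.Modules.pushforward π).obj (Coh.structureModule Y)).presheaf.stalk x)
    (pushGerm π (Coh.structureModule Y) V hxV)
  have hQ := NormEuler.length_cokernel_eq π x hxV
  rw [length_coker_stalk ((Scheme.Modules.pullbackPushforwardAdjunction π).unit.app F) x]
  exact ⟨hinj, fun h => h0 (hQ.symm.trans h), fun h => h1 inferInstance (hQ.symm.trans h)⟩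

include hU hU' in
/-- A map `F → π_*E` generating `E`, and its composite with `π_*λ`, on stalks. -/
theorem beta_stalk {F : X.Modules} (hF : Coh.IsQCoh F) (x : X) {a c r : ℕ} (hr : a + c = r)
    (e : F.presheaf.stalk x ≃ₗ[X.presheaf.stalk x] TF (X.presheaf.stalk x) a c)
    {E₀ E : Y.Modules} (hE₀ : FlatMod.IsFinLocFreeOfRank r E₀) (hE : FlatMod.IsFinLocFreeOfRank r E)
    (q : (Scheme.Modules.pullback π).obj F ⟶ E₀) [Epi q] (lam : E₀ ⟶ E)
    (hc : 0 < c → Module.length (X.presheaf.stalk x) ((cokernel (ClSub.unitToPush π)).presheaf.stalk x) = 1 ∧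
      ∃ z ∈ maximalIdeal (X.presheaf.stalk x), ∀ w : X.presheaf.stalk x, z * w = 0 → w = 0) :
    let β := (Scheme.Modules.pullbackPushforwardAdjunction π).unit.app F ≫ (Scheme.Modules.pushforward π).map q
    Function.Injective (stalkMapₗ β x) ∧
    Module.length (X.presheaf.stalk x) ((cokernel β).presheaf.stalk x) =
      a * Module.length (X.presheaf.stalk x) ((cokernel (ClSub.unitToPush π)).presheaf.stalk x) ∧
    (Function.Injective (stalkMapₗ ((Scheme.Modules.pushforward π).map lam) x ∘ stalkMapₗ β x) →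
      Function.Injective (stalkMapₗ ((Scheme.Modules.pushforward π).map lam) x)) := by
  intro β
  obtain ⟨U₁, hxU₁, ⟨ι₁⟩⟩ := FittX.exists_trivial_over_preimage π E₀ hE₀ x
  obtain ⟨U₂, hxU₂, ⟨ι₂⟩⟩ := FittX.exists_trivial_over_preimage π E hE x
  obtain ⟨_, ⟨V, hV, rfl⟩, hxV, hle⟩ :=
    X.isBasis_affineOpens.exists_subset_of_mem_open (show x ∈ U₁ ⊓ U₂ from ⟨hxU₁, hxU₂⟩) (U₁ ⊓ U₂).2
  obtain ⟨l₁⟩ := QCoh.free_sections (hV.preimage π) (π.preimage_mono (fun z hz => (hle hz).1)) ι₁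
  obtain ⟨l₂⟩ := QCoh.free_sections (hV.preimage π) (π.preimage_mono (fun z hz => (hle hz).2)) ι₂
  obtain ⟨t, ht, hden⟩ := exists_den π hU hU' hV
  have hlf₀ : FlatMod.IsFinLocFree E₀ := fun y => let ⟨W, hy, h⟩ := hE₀ y; ⟨W, r, hy, h⟩
  have hlf : FlatMod.IsFinLocFree E := fun y => let ⟨W, hy, h⟩ := hE y; ⟨W, r, hy, h⟩
  let G := (Scheme.Modules.pullback π).obj F
  let P := Scheme.Modules.pushforward π
  letI := appAlg π V
  letI := appMod π G V
  letI := appMod π E₀ V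
  letI := appMod π E V
  letI := appMod π (Coh.structureModule Y) V
  letI := QCoh.stalkAlg (X := X) hxV
  letI := QCoh.stalkModule F hxV
  letI := QCoh.stalkModule (P.obj E₀) hxV
  letI := QCoh.stalkModule (P.obj E) hxV
  letI := QCoh.stalkModule (P.obj (Coh.structureModule Y)) hxV
  haveI := QCoh.isScalarTower_stalk F hxV
  haveI := QCoh.isScalarTower_stalk (P.obj E₀) hxV
  haveI := QCoh.isScalarTower_stalk (P.obj E) hxV
  haveI := QCoh.isScalarTower_stalk (P.obj (Coh.structureModule Y)) hxV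
  haveI : IsLocalization.AtPrime (X.presheaf.stalk x) (hV.primeIdealOf ⟨x, hxV⟩).asIdeal :=
    QCoh.isLocalization_stalk' hV hxV
  haveI := QCoh.isLocalizedModule_germLin hF hV hxV
  haveI : Module.Finite Γ(X, V) Γ(Y, π ⁻¹ᵁ V) := by
    have := π.finite_app V hV
    rw [Scheme.Hom.app_eq_appLE] at this
    exact this
  haveI : IsScalarTower Γ(X, V) Γ(Y, π ⁻¹ᵁ V) Γ(G, π ⁻¹ᵁ V) := IsScalarTower.of_algebraMap_smul fun _ _ => rfl
  haveI : IsScalarTower Γ(X, V) Γ(Y, π ⁻¹ᵁ V) Γ(E₀, π ⁻¹ᵁ V) := IsScalarTower.of_algebraMap_smul fun _ _ => rfl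
  haveI : IsScalarTower Γ(X, V) Γ(Y, π ⁻¹ᵁ V) Γ(E, π ⁻¹ᵁ V) := IsScalarTower.of_algebraMap_smul fun _ _ => rfl
  obtain ⟨l, hl, hbc⟩ := ExistEasy.exists_pullSec_baseChange π hF (hV.preimage π) hV le_rfl
  haveI := pushGerm_loc π (QCoh.isQCoh_of_isFinLocFree hlf₀) hV hxV
  haveI := pushGerm_loc π (QCoh.isQCoh_of_isFinLocFree hlf) hV hxV
  haveI := pushGerm_loc π (QCoh.isQCoh_structureModule (X := Y)) hV hxV
  let qL : Γ(G, π ⁻¹ᵁ V) →ₗ[Γ(Y, π ⁻¹ᵁ V)] Γ(E₀, π ⁻¹ᵁ V) :=
    { toFun := q.app _, map_add' := map_add (q.app _).hom, map_smul' := fun s z => q.app_smul s z }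
  let ν : Γ(E₀, π ⁻¹ᵁ V) →ₗ[Γ(Y, π ⁻¹ᵁ V)] Γ(E, π ⁻¹ᵁ V) :=
    { toFun := lam.app _, map_add' := map_add (lam.app _).hom, map_smul' := fun s z => lam.app_smul s z }
  have hspan : Submodule.span Γ(Y, π ⁻¹ᵁ V) (Set.range ((qL.restrictScalars Γ(X, V)).comp l)) = ⊤ := by
    have h1 : Submodule.span Γ(Y, π ⁻¹ᵁ V) (Set.range l) = ⊤ := top_unique fun z _ =>
      hbc.inductionOn z (fun z => z ∈ Submodule.span Γ(Y, π ⁻¹ᵁ V) (Set.range l)) (zero_mem _)
        (fun m => Submodule.subset_span ⟨m, rfl⟩) (fun s n hn => Submodule.smul_mem _ s hn)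
        (fun n₁ n₂ h₁ h₂ => add_mem h₁ h₂)
    have h2 : Set.range ((qL.restrictScalars Γ(X, V)).comp l) = qL '' Set.range l := by
      rw [LinearMap.coe_comp, Set.range_comp]; rfl
    rw [h2, Submodule.span_image, h1, Submodule.map_top]
    exact LinearMap.range_eq_top.2 (QCoh.app_surjective_of_epi (QCoh.isQCoh_pullback π hF)
      (QCoh.isQCoh_of_isFinLocFree hlf₀) q (hV.preimage π))
  have hφ : ∀ m, stalkMapₗ β x (QCoh.germLin F hxV m) =
      pushGerm π E₀ V hxV (((qL.restrictScalars Γ(X, V)).comp l) m) := fun m => by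
    refine (RefHull.stalkMapₗ_germ _ x hxV m).trans ?_
    rw [LinearMap.comp_apply, hl]
    unfold QCoh.pullSec
    simp [pushGerm, pushEquiv, QCoh.germLin, qL, β]
  have ht₁ : ∀ z : Γ(Y, π ⁻¹ᵁ V), algebraMap Γ(X, V) Γ(Y, π ⁻¹ᵁ V) t * z = 0 → z = 0 :=
    fun z hz => ht z (by rw [Scheme.Hom.app_eq_appLE]; exact hz)
  have hden₁ : ∀ z : Γ(Y, π ⁻¹ᵁ V), ∃ r, algebraMap Γ(X, V) Γ(Y, π ⁻¹ᵁ V) r = t • z := fun z => by
    obtain ⟨r', hr'⟩ := hden z
    refine ⟨r', ?_⟩
    rw [Scheme.Hom.app_eq_appLE] at hr'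
    rw [Algebra.smul_def]
    exact hr'
  let E₀l := l₁.trans ((Finsupp.linearEquivFunOnFinite _ _ _).trans (LinearEquiv.funCongrLeft _ _ Equiv.ulift.symm))
  let El := l₂.trans ((Finsupp.linearEquivFunOnFinite _ _ _).trans (LinearEquiv.funCongrLeft _ _ Equiv.ulift.symm))
  have hQ := NormEuler.length_cokernel_eq π x hxV
  obtain ⟨hinj, hlen⟩ := beta_local (p := (hV.primeIdealOf ⟨x, hxV⟩).asIdeal) (app_inj π hU V) t ht₁ hden₁
    (QCoh.germLin F hxV) e E₀l (pushGerm π E₀ V hxV) _ hspan (stalkMapₗ β x) hφ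
    ((P.obj (Coh.structureModule Y)).presheaf.stalk x) (pushGerm π (Coh.structureModule Y) V hxV) hr
    (fun h => ⟨hQ.symm.trans (hc h).1, (hc h).2⟩)
  refine ⟨hinj, ?_, fun hni => ?_⟩
  · rw [length_coker_stalk β x, hlen, hQ]
    rfl
  · exact comp_local (p := (hV.primeIdealOf ⟨x, hxV⟩).asIdeal) (app_inj π hU V) t ht₁ hden₁
      (QCoh.germLin F hxV) E₀l (pushGerm π E₀ V hxV) _ hspan (stalkMapₗ β x) hφ
      El (pushGerm π E V hxV) ν (stalkMapₗ (P.map lam) x)
      (fun z => RefHull.stalkMapₗ_germ (P.map lam) x hxV (pushEquiv π E₀ V z)) hni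

end local_

end Groth.Agent.NodePush7
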