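import Groth.Agent.NodePush7.Alg

/-! The statements of `NodePush7.Alg` for localizations of sections over an affine open. -/

noncomputable section

set_option autoImplicit false
set_option linter.style.haveILetI false
set_option linter.unusedSectionVars false
set_option maxHeartbeats 1000000

universe u

open IsLocalRing TensorProduct

namespace Groth.Agent.NodePush7

theorem Birat.mul {A B : Type u} [CommRing A] [IsLocalRing A] [CommRing B] [Algebra A B] {t : A} (h : Birat A B t) {z : A}
    (hz : ∀ a, z * a = 0 → a = 0) : Birat A B (t * z) where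
  inj := h.inj
  regB b hb := by
    refine h.regB b ?_
    rw [← h.num_spec, ← map_zero (algebraMap A B)]
    congr 1
    refine hz _ (h.inj ?_)
    rw [map_mul, map_zero, h.num_spec, ← mul_assoc, mul_comm (algebraMap A B z), ← map_mul, hb]
  den b := ⟨z * h.num b, by rw [map_mul, h.num_spec, map_mul]; ring⟩

theorem stable_of_length {A B : Type u} [CommRing A] [IsLocalRing A] [CommRing B] [Algebra A B] [Module.Finite A B]
    (hinj : Function.Injective (algebraMap A B)) (hQ : Module.length A (Q A B) = 1) : Stable A B := by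
  intro b z
  obtain ⟨I, hI, ⟨q⟩⟩ := isSimpleModule_iff_quot_maximal.1 (Module.length_eq_one_iff.1 hQ)
  obtain rfl := eq_maximalIdeal hI
  have h0 : (z : A) • (Submodule.Quotient.mk b : Q A B) = 0 := q.injective (by
    rw [map_smul, map_zero]
    obtain ⟨r, hr⟩ := Ideal.Quotient.mk_surjective (q (Submodule.Quotient.mk b))
    rw [← hr, ← Ideal.Quotient.mk_eq_mk, ← Submodule.Quotient.mk_smul, Submodule.Quotient.mk_eq_zero]
    exact Ideal.mul_mem_right _ _ z.2)
  rw [← Submodule.Quotient.mk_smul, Submodule.Quotient.mk_eq_zero] at h0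
  obtain ⟨w, hw⟩ := h0
  refine ⟨⟨w, (mem_maximalIdeal w).2 fun hu => (mem_maximalIdeal (z : A)).1 z.2 ?_⟩, ?_⟩
  · have h1 : algebraMap A B z * b = algebraMap A B w := by rw [← Algebra.smul_def]; exact hw.symm
    have h2 : IsUnit (algebraMap A B (z : A)) := isUnit_of_mul_isUnit_left (h1 ▸ hu.map (algebraMap A B))
    haveI : Algebra.IsIntegral A B := Algebra.IsIntegral.of_finite A B
    haveI : IsLocalHom (algebraMap A B) :=
      RingHom.IsIntegral.isLocalHom Algebra.IsIntegral.isIntegral hinj
    exact IsUnit.of_map (algebraMap A B) _ h2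
  · show algebraMap A B w = _
    rw [mul_comm, ← Algebra.smul_def]
    exact hw

section

variable {R R' : Type u} [CommRing R] [CommRing R'] [Algebra R R'] [Module.Finite R R']
  (p : Ideal R) [p.IsPrime] (A : Type u) [CommRing A] [Algebra R A] [IsLocalization.AtPrime A p] [IsLocalRing A]

variable (R') in
abbrev Bp : Type u := Localization (Algebra.algebraMapSubmonoid R' p.primeCompl)

/-- The `A`-algebra structure of `R'_p`. -/
abbrev bpAlg : Algebra A (Bp R' p) :=
  (IsLocalization.map (M := p.primeCompl) (T := Algebra.algebraMapSubmonoid R' p.primeCompl) (Bp R' p)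
    (algebraMap R R') (fun r hr => ⟨r, hr, rfl⟩) : A →+* Bp R' p).toAlgebra

theorem bp_tower :
    letI := bpAlg (R' := R') p A
    IsScalarTower R A (Bp R' p) := by
  letI := bpAlg (R' := R') p A
  refine IsScalarTower.of_algebraMap_eq fun r => ?_
  rw [show algebraMap A (Bp R' p) (algebraMap R A r) = algebraMap R' _ (algebraMap R R' r) from
    IsLocalization.map_eq _ r, ← IsScalarTower.algebraMap_apply R R' (Bp R' p)]

theorem bp_finite :
    letI := bpAlg (R' := R') p A
    Module.Finite A (Bp R' p) := by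
  letI := bpAlg (R' := R') p A
  haveI := bp_tower (R' := R') p A
  haveI : IsLocalizedModule p.primeCompl (IsScalarTower.toAlgHom R R' (Bp R' p)).toLinearMap :=
    isLocalizedModule_iff_isLocalization.2 inferInstance
  exact Module.Finite.of_isLocalizedModule p.primeCompl (Rₚ := A)
    (IsScalarTower.toAlgHom R R' (Bp R' p)).toLinearMap

variable {p A}
variable (hinj : Function.Injective (algebraMap R R')) (t : R)
  (ht : ∀ z : R', algebraMap R R' t * z = 0 → z = 0) (hden : ∀ z : R', ∃ r, algebraMap R R' r = t • z)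

include hinj ht hden in
theorem bp_birat :
    letI := bpAlg (R' := R') p A
    Birat A (Bp R' p) (algebraMap R A t) := by
  letI := bpAlg (R' := R') p A
  haveI := bp_tower (R' := R') p A
  let M' := Algebra.algebraMapSubmonoid R' p.primeCompl
  haveI : IsLocalization (Submonoid.map (algebraMap R R') p.primeCompl) (Bp R' p) :=
    (inferInstance : IsLocalization M' (Bp R' p))
  have htt : algebraMap A (Bp R' p) (algebraMap R A t) = algebraMap R' _ (algebraMap R R' t) :=
    IsLocalization.map_eq _ t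
  refine ⟨IsLocalization.map_injective_of_injective p.primeCompl (S := A) (Q := Bp R' p) (g := algebraMap R R') hinj,
    fun z hz => ?_, fun z => ?_⟩
  · obtain ⟨⟨a, m⟩, hm⟩ := IsLocalization.surj M' z
    have h1 : algebraMap R' (Bp R' p) (algebraMap R R' t * a) = 0 := by
      rw [map_mul, ← hm, ← mul_assoc, ← htt, hz, zero_mul]
    obtain ⟨w, hw⟩ := (IsLocalization.map_eq_zero_iff M' (Bp R' p) _).1 h1
    have h2 : (w : R') * a = 0 := ht _ (by rw [mul_left_comm]; exact hw)
    have h3 : algebraMap R' (Bp R' p) a = 0 := (IsLocalization.map_eq_zero_iff M' _ _).2 ⟨w, h2⟩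
    rw [← hm] at h3
    exact (IsLocalization.map_units (Bp R' p) m).mul_left_eq_zero.1 h3
  · obtain ⟨⟨z₀, m⟩, hm⟩ := IsLocalization.surj M' z
    obtain ⟨_, s, hs, rfl⟩ := m
    obtain ⟨r, hr⟩ := hden z₀
    refine ⟨IsLocalization.mk' A r ⟨s, hs⟩,
      ((IsLocalization.map_units A (⟨s, hs⟩ : p.primeCompl)).map (algebraMap A (Bp R' p))).mul_right_cancel ?_⟩
    show algebraMap A _ _ * algebraMap A _ (algebraMap R A s) = _ * algebraMap A _ (algebraMap R A s)
    have e1 : ∀ x : R, algebraMap A (Bp R' p) (algebraMap R A x) = algebraMap R' _ (algebraMap R R' x) :=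
      fun x => IsLocalization.map_eq _ x
    rw [← map_mul, IsLocalization.mk'_spec, e1, e1, e1, hr, Algebra.smul_def, map_mul, mul_assoc, hm]

variable (p A) in
theorem length_Q_eq (T₀ : Type u) [AddCommGroup T₀] [Module A T₀] [Module R T₀] [IsScalarTower R A T₀]
    (g₀ : R' →ₗ[R] T₀) [IsLocalizedModule p.primeCompl g₀] :
    letI := bpAlg (R' := R') p A
    Module.length A (Q A (Bp R' p)) = Module.length A (T₀ ⧸ Submodule.span A {g₀ 1}) := by
  letI := bpAlg (R' := R') p A
  haveI := bp_tower (R' := R') p A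
  haveI : IsLocalizedModule p.primeCompl (IsScalarTower.toAlgHom R R' (Bp R' p)).toLinearMap :=
    isLocalizedModule_iff_isLocalization.2 inferInstance
  let ε : Bp R' p ≃ₗ[A] T₀ :=
    (IsLocalizedModule.linearEquiv p.primeCompl (IsScalarTower.toAlgHom R R' (Bp R' p)).toLinearMap g₀).extendScalarsOfIsLocalization
      p.primeCompl A
  have h1 : ε 1 = g₀ 1 := by
    conv_lhs => rw [show (1 : Bp R' p) = (IsScalarTower.toAlgHom R R' (Bp R' p)).toLinearMap 1 from
      (map_one (IsScalarTower.toAlgHom R R' (Bp R' p))).symm]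
    exact IsLocalizedModule.linearEquiv_apply p.primeCompl _ g₀ 1
  refine LinearEquiv.length_eq (Submodule.Quotient.equiv _ _ ε ?_)
  ext x
  rw [← h1, Submodule.mem_map, Submodule.mem_span_singleton]
  constructor
  · rintro ⟨_, ⟨w, rfl⟩, rfl⟩
    exact ⟨w, by rw [← map_smul, Algebra.linearMap_apply, Algebra.algebraMap_eq_smul_one]; rfl⟩
  · rintro ⟨w, rfl⟩
    exact ⟨_, ⟨w, rfl⟩, by rw [← map_smul, Algebra.linearMap_apply, Algebra.algebraMap_eq_smul_one]; rfl⟩

variable {M : Type u} [AddCommGroup M] [Module R M] {MA : Type u} [AddCommGroup MA] [Module R MA] [Module A MA]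
  [IsScalarTower R A MA] (g : M →ₗ[R] MA) [IsLocalizedModule p.primeCompl g]
  {a c : ℕ} (e : MA ≃ₗ[A] TF A a c)

include hinj ht hden e in
theorem unit_local {M' : Type u} [AddCommGroup M'] [Module R M'] [Module R' M'] [IsScalarTower R R' M']
    (l : M →ₗ[R] M') (hl : IsBaseChange R' l)
    {T : Type u} [AddCommGroup T] [Module R T] [Module A T] [IsScalarTower R A T]
    (gT : M' →ₗ[R] T) [IsLocalizedModule p.primeCompl gT]
    (η : MA →ₗ[A] T) (hη : ∀ m, η (g m) = gT (l m)) :
    Function.Injective η ∧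
    (∀ (T₀ : Type u) [AddCommGroup T₀] [Module A T₀] [Module R T₀] [IsScalarTower R A T₀]
      (g₀ : R' →ₗ[R] T₀) [IsLocalizedModule p.primeCompl g₀],
      (Module.length A (T₀ ⧸ Submodule.span A {g₀ 1}) = 0 →
        Module.length A (T ⧸ LinearMap.range η) = 0) ∧
      (IsNoetherianRing A → Module.length A (T₀ ⧸ Submodule.span A {g₀ 1}) = 1 →
        Module.length A (T ⧸ LinearMap.range η) =
          (a + c * Module.finrank (ResidueField A) (CotangentSpace A) : ℕ))) := by
  letI := bpAlg (R' := R') p A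
  haveI := bp_tower (R' := R') p A
  have hb := bp_birat (A := A) (p := p) hinj t ht hden
  let η₀ := TensorProduct.mk A (Bp R' p) MA 1
  -- base change of `M` to `B`
  have hgA : IsBaseChange A g := IsLocalizedModule.isBaseChange p.primeCompl A g
  have hM : IsBaseChange (Bp R' p) ((η₀.restrictScalars R).comp g) :=
    hgA.comp (TensorProduct.isBaseChange A MA (Bp R' p))
  let φ : M' →ₗ[R'] (Bp R' p ⊗[A] MA) := hl.lift ((η₀.restrictScalars R).comp g)
  have hφl : ∀ m, φ (l m) = η₀ (g m) := fun m => hl.lift_eq _ m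
  have hφ : IsBaseChange (Bp R' p) φ := by
    refine IsBaseChange.of_comp hl ?_
    convert hM using 1
    exact LinearMap.ext hφl
  haveI : IsLocalizedModule (Algebra.algebraMapSubmonoid R' p.primeCompl) φ :=
    (isLocalizedModule_iff_isBaseChange _ (Bp R' p) φ).2 hφ
  haveI : IsLocalizedModule p.primeCompl (φ.restrictScalars R) := IsLocalizedModule.restrictScalars _ φ
  let ε : (Bp R' p ⊗[A] MA) ≃ₗ[A] T :=
    (IsLocalizedModule.linearEquiv p.primeCompl (φ.restrictScalars R) gT).extendScalarsOfIsLocalization p.primeCompl A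
  have hcomp : ∀ v, η v = ε (η₀ v) := by
    have : η.restrictScalars R = (ε.toLinearMap ∘ₗ η₀).restrictScalars R := by
      refine IsLocalizedModule.linearMap_ext p.primeCompl g gT (LinearMap.ext fun m => ?_)
      show η (g m) = ε (η₀ (g m))
      rw [hη, ← hφl]
      exact (IsLocalizedModule.linearEquiv_apply p.primeCompl (φ.restrictScalars R) gT (l m)).symm
    exact fun v => congr($this v)
  have hr : Submodule.map ε.toLinearMap (LinearMap.range η₀) = LinearMap.range η := by
    rw [← LinearMap.range_comp]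
    exact congrArg LinearMap.range (LinearMap.ext fun v => (hcomp v).symm)
  have hlen : Module.length A (T ⧸ LinearMap.range η) =
      Module.length A ((Bp R' p ⊗[A] MA) ⧸ LinearMap.range η₀) :=
    (Submodule.Quotient.equiv _ _ ε hr).length_eq.symm
  refine ⟨fun v w hvw => hb.unit_injective e (ε.injective ?_), fun T₀ _ _ _ _ g₀ _ => ⟨fun h0 => ?_, fun hN h1 => ?_⟩⟩
  · exact ((hcomp v).symm.trans hvw).trans (hcomp w)
  · rw [hlen]; exact unit_coker_length_zero (by rw [length_Q_eq p A T₀ g₀]; exact h0)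
  · rw [hlen]; exact unit_coker_length e (by rw [length_Q_eq p A T₀ g₀]; exact h1)

variable {r : ℕ} {E : Type u} [AddCommGroup E] [Module R E] [Module R' E] [IsScalarTower R R' E]
  (lE : E ≃ₗ[R'] (Fin r → R'))
  {TE : Type u} [AddCommGroup TE] [Module R TE] [Module A TE] [IsScalarTower R A TE]
  (gE : E →ₗ[R] TE) [IsLocalizedModule p.primeCompl gE]

/-- The `R`-linear localization map of a free `R'`-module. -/
abbrev freeLoc : E →ₗ[R] (Fin r → Bp R' p) :=
  (LinearMap.pi fun i => ((IsScalarTower.toAlgHom R R' (Bp R' p)).toLinearMap).comp (LinearMap.proj i)).comp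
    (lE.toLinearMap.restrictScalars R)

theorem freeLoc_loc : IsLocalizedModule p.primeCompl (freeLoc (p := p) lE) := by
  haveI : IsLocalizedModule p.primeCompl (IsScalarTower.toAlgHom R R' (Bp R' p)).toLinearMap :=
    isLocalizedModule_iff_isLocalization.2 inferInstance
  exact IsLocalizedModule.of_linearEquiv_right p.primeCompl
    (LinearMap.pi fun i => ((IsScalarTower.toAlgHom R R' (Bp R' p)).toLinearMap).comp (LinearMap.proj i))
    (lE.restrictScalars R)

theorem freeLoc_smul (b : R') (x : E) :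
    freeLoc (p := p) lE (b • x) = algebraMap R' (Bp R' p) b • freeLoc lE x := by
  funext i
  simp

variable (β : M →ₗ[R] E) (hβ : Submodule.span R' (Set.range β) = ⊤)
  (φA : MA →ₗ[A] TE) (hφA : ∀ m, φA (g m) = gE (β m))

include hβ hφA in
theorem exists_free_model :
    letI := bpAlg (R' := R') p A
    ∃ (ψ : MA →ₗ[A] (Fin r → Bp R' p)) (ε : (Fin r → Bp R' p) ≃ₗ[A] TE),
      Submodule.span (Bp R' p) (Set.range ψ) = ⊤ ∧ (∀ v, ε (ψ v) = φA v) ∧ ∀ x, ε (freeLoc lE x) = gE x := by
  letI := bpAlg (R' := R') p A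
  haveI := bp_tower (R' := R') p A
  haveI := freeLoc_loc (p := p) lE
  let ε : (Fin r → Bp R' p) ≃ₗ[A] TE :=
    (IsLocalizedModule.linearEquiv p.primeCompl (freeLoc lE) gE).extendScalarsOfIsLocalization p.primeCompl A
  have hε : ∀ x, ε (freeLoc lE x) = gE x := fun x => IsLocalizedModule.linearEquiv_apply p.primeCompl _ _ x
  refine ⟨ε.symm.toLinearMap ∘ₗ φA, ε, ?_, fun v => ε.apply_symm_apply _, hε⟩
  let N := Submodule.span (Bp R' p) (Set.range (ε.symm.toLinearMap ∘ₗ φA))
  have h1 : ∀ x, freeLoc lE x ∈ N := fun x => by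
    have hx : x ∈ Submodule.span R' (Set.range β) := hβ ▸ Submodule.mem_top
    induction hx using Submodule.span_induction with
    | mem y hy =>
      obtain ⟨m, rfl⟩ := hy
      refine Submodule.subset_span ⟨g m, ε.injective ?_⟩
      rw [LinearMap.comp_apply, LinearEquiv.coe_coe, ε.apply_symm_apply, hφA, hε]
    | zero => rw [map_zero]; exact N.zero_mem
    | add x y _ _ hx hy => rw [map_add]; exact N.add_mem hx hy
    | smul b x _ hx => rw [freeLoc_smul]; exact N.smul_mem _ hx
  refine top_unique fun y _ => ?_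
  obtain ⟨⟨x, s⟩, hs⟩ := IsLocalizedModule.surj p.primeCompl (freeLoc (p := p) lE) y
  have hu : IsUnit (algebraMap R (Bp R' p) (s : R)) := by
    rw [IsScalarTower.algebraMap_apply R R' (Bp R' p)]
    exact IsLocalization.map_units _ (⟨_, s, s.2, rfl⟩ : Algebra.algebraMapSubmonoid R' p.primeCompl)
  have h2 : algebraMap R (Bp R' p) (s : R) • y ∈ N := by
    rw [algebraMap_smul]; exact (show (s : R) • y = freeLoc lE x from hs) ▸ h1 x
  obtain ⟨w, hw⟩ := hu.exists_left_inv
  have h3 := N.smul_mem w h2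
  rwa [smul_smul, hw, one_smul] at h3

include hinj ht hden hβ hφA e lE in
theorem beta_local (T₀ : Type u) [AddCommGroup T₀] [Module A T₀] [Module R T₀] [IsScalarTower R A T₀]
    (g₀ : R' →ₗ[R] T₀) [IsLocalizedModule p.primeCompl g₀] (hr : a + c = r)
    (hc : 0 < c → Module.length A (T₀ ⧸ Submodule.span A {g₀ 1}) = 1 ∧
      ∃ z ∈ maximalIdeal A, ∀ x : A, z * x = 0 → x = 0) :
    Function.Injective φA ∧
      Module.length A (TE ⧸ LinearMap.range φA) = a * Module.length A (T₀ ⧸ Submodule.span A {g₀ 1}) := by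
  letI := bpAlg (R' := R') p A
  haveI := bp_tower (R' := R') p A
  haveI := bp_finite (R' := R') p A
  have hb := bp_birat (A := A) (p := p) hinj t ht hden
  obtain ⟨ψ, ε, hψ, hcomp, -⟩ := exists_free_model (p := p) g lE gE β hβ φA hφA
  have hψi : Function.Injective ψ := by
    rcases Nat.eq_zero_or_pos c with h0 | h0
    · exact hb.span_injective e ψ hψ hr fun i => absurd i.2 (by omega)
    · obtain ⟨-, z, hz, hzr⟩ := hc h0
      exact (hb.mul hzr).span_injective e ψ hψ hr fun _ => Ideal.mul_mem_left _ _ hz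
  refine ⟨fun v w hvw => hψi (ε.injective (((hcomp v).trans hvw).trans (hcomp w).symm)), ?_⟩
  have hr' : Submodule.map ε.toLinearMap (LinearMap.range ψ) = LinearMap.range φA := by
    rw [← LinearMap.range_comp]
    exact congrArg LinearMap.range (LinearMap.ext hcomp)
  rw [← (Submodule.Quotient.equiv _ _ ε hr').length_eq, ← length_Q_eq p A T₀ g₀]
  exact hb.span_coker_length e ψ hψ hψi fun h0 =>
    stable_of_length hb.inj (by rw [length_Q_eq p A T₀ g₀]; exact (hc h0).1)

include hinj ht hden hβ hφA lE in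
theorem comp_local {E' : Type u} [AddCommGroup E'] [Module R E'] [Module R' E'] [IsScalarTower R R' E']
    (lE' : E' ≃ₗ[R'] (Fin r → R'))
    {TE' : Type u} [AddCommGroup TE'] [Module R TE'] [Module A TE'] [IsScalarTower R A TE']
    (gE' : E' →ₗ[R] TE') [IsLocalizedModule p.primeCompl gE']
    (ν : E →ₗ[R'] E') (νA : TE →ₗ[A] TE') (hν : ∀ x, νA (gE x) = gE' (ν x))
    (hni : Function.Injective (νA ∘ φA)) : Function.Injective νA := by
  letI := bpAlg (R' := R') p A
  haveI := bp_tower (R' := R') p A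
  have hb := bp_birat (A := A) (p := p) hinj t ht hden
  obtain ⟨ψ, ε, hψ, hcomp, hε⟩ := exists_free_model (p := p) g lE gE β hβ φA hφA
  haveI := freeLoc_loc (p := p) lE'
  haveI := freeLoc_loc (p := p) lE
  let ε' : (Fin r → Bp R' p) ≃ₗ[A] TE' :=
    (IsLocalizedModule.linearEquiv p.primeCompl (freeLoc lE') gE').extendScalarsOfIsLocalization p.primeCompl A
  have hε' : ∀ x, ε' (freeLoc lE' x) = gE' x := fun x => IsLocalizedModule.linearEquiv_apply p.primeCompl _ _ x
  -- the `B`-linear map
  let N : Matrix (Fin r) (Fin r) R' := LinearMap.toMatrix' (lE'.toLinearMap ∘ₗ ν ∘ₗ lE.symm.toLinearMap)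
  let μ : (Fin r → Bp R' p) →ₗ[Bp R' p] (Fin r → Bp R' p) := Matrix.toLin' (N.map (algebraMap R' (Bp R' p)))
  have hμ : ∀ x, μ (freeLoc lE x) = freeLoc lE' (ν x) := fun x => by
    show (N.map (algebraMap R' (Bp R' p))).mulVec (fun i => algebraMap R' _ (lE x i)) = fun i => algebraMap R' _ (lE' (ν x) i)
    funext i
    refine (RingHom.map_mulVec (algebraMap R' (Bp R' p)) N (lE x) i).symm.trans (congrArg _ ?_)
    show N.mulVec (lE x) i = _
    rw [show N.mulVec (lE x) = (lE'.toLinearMap ∘ₗ ν ∘ₗ lE.symm.toLinearMap) (lE x) from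
      (Matrix.toLin'_apply _ _).symm.trans (by rw [Matrix.toLin'_toMatrix'])]
    simp
  have hνμ : ∀ y, νA (ε y) = ε' (μ y) := by
    have : (νA ∘ₗ ε.toLinearMap).restrictScalars R =
        (ε'.toLinearMap ∘ₗ (μ.restrictScalars A)).restrictScalars R := by
      refine IsLocalizedModule.linearMap_ext p.primeCompl (freeLoc lE) gE' (LinearMap.ext fun x => ?_)
      show νA (ε (freeLoc lE x)) = ε' (μ (freeLoc lE x))
      rw [hε, hμ, hε', hν]
    exact fun y => congr($this y)
  have hinj' : Function.Injective μ := hb.comp_injective ψ hψ μ fun v w hvw => hni (by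
    show νA (φA v) = νA (φA w)
    rw [← hcomp, ← hcomp, hνμ, hνμ]
    exact congrArg ε' hvw)
  intro y₁ y₂ h12
  obtain ⟨x₁, rfl⟩ := ε.surjective y₁
  obtain ⟨x₂, rfl⟩ := ε.surjective y₂
  rw [hνμ, hνμ] at h12
  rw [hinj' (ε'.injective h12)]

end

end Groth.Agent.NodePush7
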